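import Groth.Prelude.Def_SixF1

/-!
The composition morphism of bounded-below derived functors is invertible.
-/

set_option autoImplicit false
universe u
open CategoryTheory
attribute [local instance] HasDerivedCategory.standard

namespace Groth.Agent.CompMapIso

theorem isIso_rPlusDesc₂ {A B C : Type*} [Category* A] [Category* B] [Category* C]
    [Abelian A] [Abelian B] [Abelian C] [HasDerivedCategory A] [HasDerivedCategory B] [HasDerivedCategory C]
    [EnoughInjectives A] [EnoughInjectives B] {F : A ⥤ B} {G : B ⥤ C} {H : A ⥤ C}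
    [F.Additive] [G.Additive] [H.Additive] (θ : H ⟶ F ⋙ G) [IsIso θ]
    (hF : ∀ I : A, Injective I → Injective (F.obj I)) :
    IsIso (EtSix.rPlusDesc₂ θ) := by
  let W := HomotopyCategory.Plus.quasiIso A
  let β := EtSix.rPlusUnit₂ θ
  let F' : InjectiveObject A ⥤ InjectiveObject B :=
    ObjectProperty.lift _ (InjectiveObject.ι A ⋙ F) (fun I => hF _ I.property)
  haveI : F'.Additive := ⟨fun {X Y f g} => by
    apply (InjectiveObject.ι B).map_injective
    exact ((InjectiveObject.ι A ⋙ F).map_add)⟩
  let P := H.rightDerivedFunctorPlus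
  let u := H.rightDerivedFunctorPlusUnit
  let τ := P.rightDerivedDesc u W (F.rightDerivedFunctorPlus ⋙ G.rightDerivedFunctorPlus) β
  haveI := Localization.essSurj DerivedCategory.Plus.Qh W
  haveI : ∀ Y : DerivedCategory.Plus A, IsIso (τ.app Y) := fun Y => by
    obtain ⟨K, hK⟩ := HomotopyCategory.Plus.quotient_obj_surjective (DerivedCategory.Plus.Qh.objPreimage Y)
    obtain ⟨n, hn⟩ := K.property
    haveI := hn
    obtain ⟨L, -, i, hi⟩ := CochainComplex.Plus.exists_quasiIso_injective K n
    let I := (HomotopyCategory.Plus.quotient A).obj ((InjectiveObject.ι A).mapCochainComplexPlus.obj L)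
    haveI : IsIso (u.app I) := inferInstance
    haveI h1 : IsIso (F.rightDerivedFunctorPlusUnit.app I) := inferInstance
    haveI h2 : IsIso (G.rightDerivedFunctorPlusUnit.app (F.mapHomotopyCategoryPlus.obj I)) :=
      inferInstanceAs (IsIso (G.rightDerivedFunctorPlusUnit.app
        ((HomotopyCategory.Plus.quotient B).obj
          ((InjectiveObject.ι B).mapCochainComplexPlus.obj (F'.mapCochainComplexPlus.obj L)))))
    haveI hp : IsIso ((EtSix.plusNatTrans θ).app I) := by
      haveI : IsIso (NatTrans.mapHomotopyCategory θ (ComplexShape.up ℤ)) :=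
        ⟨NatTrans.mapHomotopyCategory (inv θ) _, by
          rw [← NatTrans.mapHomotopyCategory_comp, IsIso.hom_inv_id, NatTrans.mapHomotopyCategory_id], by
          rw [← NatTrans.mapHomotopyCategory_comp, IsIso.inv_hom_id, NatTrans.mapHomotopyCategory_id]⟩
      have h : Functor.whiskerRight (EtSix.plusNatTrans θ) (HomotopyCategory.plus C).ι =
          Functor.whiskerLeft (HomotopyCategory.Plus.ι A) (NatTrans.mapHomotopyCategory θ (ComplexShape.up ℤ)) :=
        ((HomotopyCategory.plus C).fullyFaithfulι.whiskeringRight (HomotopyCategory.Plus A)).map_preimage _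
      haveI : IsIso ((HomotopyCategory.plus C).ι.map ((EtSix.plusNatTrans θ).app I)) := by
        have h' := congrArg (fun t => NatTrans.app t I) h
        rw [Functor.whiskerRight_app] at h'
        rw [h']
        exact inferInstanceAs (IsIso ((NatTrans.mapHomotopyCategory θ (ComplexShape.up ℤ)).app ((HomotopyCategory.Plus.ι A).obj I)))
      exact isIso_of_fully_faithful (HomotopyCategory.plus C).ι _
    haveI : IsIso (β.app I) := by
      show IsIso (DerivedCategory.Plus.Qh.map ((EtSix.plusNatTrans θ).app I ≫
          (Functor.mapHomotopyCategoryPlusCompIso (Iso.refl (F ⋙ G))).inv.app I) ≫ 𝟙 _ ≫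
        G.rightDerivedFunctorPlusUnit.app (F.mapHomotopyCategoryPlus.obj I) ≫ 𝟙 _ ≫
        G.rightDerivedFunctorPlus.map (F.rightDerivedFunctorPlusUnit.app I) ≫ 𝟙 _)
      infer_instance
    haveI : IsIso (τ.app (DerivedCategory.Plus.Qh.obj I)) :=
      @IsIso.of_isIso_fac_left _ _ _ _ _ (u.app I) _ _ _ ‹_› (P.rightDerived_fac_app u W _ β I)
    let s : (DerivedCategory.Plus.Qh.objPreimage Y) ⟶ I :=
      eqToHom hK.symm ≫ (HomotopyCategory.Plus.quotient A).map i
    haveI : IsIso (DerivedCategory.Plus.Qh.map s) := by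
      haveI : IsIso (DerivedCategory.Plus.Qh.map ((HomotopyCategory.Plus.quotient A).map i)) :=
        Localization.inverts DerivedCategory.Plus.Qh W _
          ((HomotopyCategory.quotient_map_mem_quasiIso_iff i.hom).2 hi)
      rw [Functor.map_comp]; infer_instance
    exact (NatTrans.isIso_app_iff_of_iso τ
      ((DerivedCategory.Plus.Qh.objObjPreimageIso Y).symm ≪≫ asIso (DerivedCategory.Plus.Qh.map s))).mpr inferInstance
  exact NatIso.isIso_of_isIso_app τ

end Groth.Agent.CompMapIso
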